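import Cfsg.Agent.SporB.Suz.Cd.Data

set_option autoImplicit false
set_option maxRecDepth 100000

namespace Cfsg.Agent.CosetEnum.Suz.Cd

def fv0 : ℕ := 0x1a00016000120000e0000a00006000020000100005000090000d0001100015000190001d0000f0000f00000
theorem fok0 : sys.checkFacts 15 1 fv0 = true := by decide +kernel

def rv0 : ℕ := 0x1d000010001f000010001b000010001e000010001c0000100019000010001a00001000170000100015000010001800001000130000100016000010001400001000110000100012000010000f000010000d0000100010000010000b000010000e000010000c0000100009000010000a00001000070000100005000010000800001000030000100006000010000400001000010000100002000010000000001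
theorem rok0 : sys.checkRows 16 16 0 16 rv0 = true := by decide +kernel

end Cfsg.Agent.CosetEnum.Suz.Cd
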