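import Cfsg.Agent.Lib.CosetEnum.Cox

set_option autoImplicit false
set_option maxRecDepth 100000

namespace Cfsg.Agent.CosetEnum.Suz.Cd

def fxL0 : ℕ := 0x780007040003c0003420001c0001800000d0000b00000600005040002c00024200014000100000090000700000400003040001c0001420000c000080000050000300000200001040000c000042000040000000000100000
def fx : PTree := (.leaf fxL0)
def rule0 : Rule := ⟨0, [1,0,1,0,1,0,1,0,1,0,1,0,1,0,1], [], false, 1, 1⟩
def rules : DTree Rule := (.leaf rule0)
def sys : Sys := ⟨2, 2080, fx, rules⟩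
def sel : List ℕ := [2,3]
def rels : List (List ℕ) := [[0,0],
  [0,1,0,1,0,1,0,1,0,1,0,1,0,1,0,1],
  [1,0,1,0,1,0,1,0,1,0,1,0,1,0,1,0],
  [1,1]]
def subs : List (List ℕ) := []

end Cfsg.Agent.CosetEnum.Suz.Cd
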